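import Cfsg.Agent.H147.Gen.Outer
import Cfsg.Agent.H715.Fpr.McL
import Cfsg.Agent.H799.PiBS.McL
import Cfsg.Agent.H686.Odd.McLFive
import Cfsg.Agent.H686.Odd.McLMain
import Cfsg.Agent.McLType.ThreeElts
import Cfsg.Agent.CpAut.SporThree.McL
import Cfsg.Agent.H966.Gen.H2

/-!
# S4327, row `McL` (helper966)

The elements commuting with an involution are treated in `C(t) = 2.A₈`: conjugates whose product has order 7 in `A₈`; then
the chain of the orders divisible by 7 (height 8). Elements `x` of order 5 not commuting with an involution: `[x, g]` is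
central in a Sylow subgroup and commutes with an involution; four conjugates of `x` generate a group of order divisible
by 35.
-/

set_option autoImplicit false
set_option maxRecDepth 100000
set_option linter.unusedSectionVars false

namespace Cfsg.Agent.H966.Gen.McL

open Subgroup Equiv Cfsg
open Cfsg.Agent.UGT.End.McLOuter Cfsg.Agent.UGT.End.McLPerm
open Cfsg.Agent.TypeM Cfsg.Agent.TypeM.OuterMcL
open Cfsg.Agent.TypeM.Two (MT)
open Cfsg.Agent.SporRec.TwoAn
open Cfsg.Agent.H147.Gen Cfsg.Agent.H940.Eng Cfsg.Agent.H940.Eng.D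
open Cfsg.Agent.H715.Fpr Cfsg.Agent.McLType.X275

universe u

/-! ### the orders -/

def os11 : List ℕ := [11, 55, 660, 2673, 7920, 13365, 95040, 160380, 443520, 19958400]

def os7 : List ℕ := [7, 14, 21, 42, 56, 112, 168, 336, 448, 504, 896, 1344, 1512, 2520, 2688, 4032, 5040, 5103, 6048,
  10206, 12096, 20160, 40320, 40824, 81648, 126000, 181440, 252000, 326592, 443520, 604800, 653184, 1008000, 3265920,
  19958400]

def os35 : List ℕ := [2520, 5040, 20160, 40320, 126000, 181440, 252000, 443520, 604800, 1008000, 3265920, 19958400]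

theorem ho11 : chkO2 l_mcl n_mcl 11 ⟨11, 11, [(5, 1), (11, 1)]⟩ os11 [] 20 McL.loc o_mcl = true := by decide +kernel
theorem hm11 : chainOK2 os11 5 = true := by decide +kernel

theorem ho7 : chkO2 l_mcl n_mcl 7 ⟨7, 14, [(2, 1), (3, 1), (7, 1)]⟩ os7 [] 20 McL.loc o_mcl = true := by decide +kernel
theorem hm7 : chainOK2 os7 8 = true := by decide +kernel

theorem ho35 : chkO2 l_mcl n_mcl 35 ⟨7, 14, [(2, 1), (3, 1), (7, 1)]⟩ os35 [] 20 McL.loc o_mcl = true := by decide +kernel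
theorem hm35 : chainOK2 os35 4 = true := by decide +kernel

/-! ### products of conjugates in `2.A₈` -/

section Prod

variable {K : Type*} [Group K] [Finite K]

/-- the product of the conjugates -/
def prodC (σ : Perm (Fin 8)) : List (Perm (Fin 8)) → Perm (Fin 8)
  | [] => 1
  | τ :: l => τ * σ * τ⁻¹ * prodC σ l

/-- conjugates whose product has order divisible by 7 -/
theorem exists_seven (L : MT 8 K) (x : centralizer ({L.t} : Set K)) {n : ℕ} (τ : Fin n → Perm (Fin 8))
    (hτ : ∀ i, Perm.sign (τ i) = 1) (h7 : prodC (L.K.π x) (List.ofFn τ) ^ 7 = 1)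
    (h1 : prodC (L.K.π x) (List.ofFn τ) ≠ 1) :
    ∃ f : Fin n → K, 7 ∣ Nat.card (closure (Set.range fun i => f i * (x : K) * (f i)⁻¹)) := by
  choose a ha using fun i => L.K.exists_lift (σ := τ i) (Perm.mem_alternatingGroup.2 (hτ i))
  refine ⟨fun i => a i, ?_⟩
  set G := closure (Set.range fun i => (a i : K) * (x : K) * (a i : K)⁻¹) with hG
  have key : ∀ l : List (Perm (Fin 8)), (∀ s ∈ l, ∃ i, τ i = s) →
      ∃ w : centralizer ({L.t} : Set K), (w : K) ∈ G ∧ L.K.π w = prodC (L.K.π x) l := by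
    intro l
    induction l with
    | nil => exact fun _ => ⟨1, one_mem _, by rw [map_one]; rfl⟩
    | cons s l ih =>
      intro hl
      obtain ⟨w, hw1, hw2⟩ := ih fun s' hs' => hl s' (List.mem_cons_of_mem _ hs')
      obtain ⟨i, hi⟩ := hl s (List.mem_cons_self ..)
      refine ⟨a i * x * (a i)⁻¹ * w, mul_mem (subset_closure ⟨i, rfl⟩) hw1, ?_⟩
      rw [map_mul, map_mul, map_mul, map_inv, ha, hi, hw2]
      rfl
  obtain ⟨w, hw1, hw2⟩ := key (List.ofFn τ) fun s hs => by
    rw [List.mem_ofFn] at hs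
    exact hs
  have : Fact (Nat.Prime 7) := ⟨by norm_num⟩
  have h2 : orderOf (prodC (L.K.π x) (List.ofFn τ)) = 7 := orderOf_eq_prime h7 h1
  have h3 : 7 ∣ orderOf w := by
    rw [← h2, ← hw2]
    exact orderOf_map_dvd L.K.π w
  rw [← Subgroup.orderOf_coe] at h3
  exact h3.trans (dvd_card_of_mem hw1)

/-- the same up to conjugation in `S₈` -/
theorem exists_seven' (L : MT 8 K) (x : centralizer ({L.t} : Set K)) {σ : Perm (Fin 8)} (hσ : IsConj (L.K.π x) σ) {n : ℕ}
    (τ : Fin n → Perm (Fin 8)) (hτ : ∀ i, Perm.sign (τ i) = 1) (h7 : prodC σ (List.ofFn τ) ^ 7 = 1)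
    (h1 : prodC σ (List.ofFn τ) ≠ 1) :
    ∃ f : Fin n → K, 7 ∣ Nat.card (closure (Set.range fun i => f i * (x : K) * (f i)⁻¹)) := by
  obtain ⟨ρ, hρ⟩ := isConj_iff.1 hσ
  have h2 : (reidx L ρ).K.π x = σ := (Cfsg.Agent.TypeM.CoverAut.congr_π L.K ρ x).trans hρ
  exact exists_seven (reidx L ρ) x τ hτ (by rw [h2]; exact h7) (by rw [h2]; exact h1)

end Prod

section Comm

variable {K : Type*} [Group K] [Finite K]

/-- an element of odd prime order commuting with an involution -/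
theorem exists_comm (L : MT 8 K) {p : ℕ} (hp : p.Prime) (hp2 : p ≠ 2) {x u : K} (hx : orderOf x = p)
    (hu : orderOf u = 2) (hc : u * x = x * u) :
    ∃ (L' : MT 8 K) (x' : centralizer ({L'.t} : Set K)), (x' : K) = x ∧ orderOf (L'.K.π x') = p := by
  have huu : u * u = 1 := by rw [← pow_two, ← hu, pow_orderOf_eq_one]
  have hu1 : u ≠ 1 := by
    rintro rfl
    rw [orderOf_one] at hu
    omega
  obtain ⟨L', hL'⟩ := L.exists_rebase huu hu1
  have hxc : x ∈ centralizer ({L'.t} : Set K) := by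
    rw [mem_centralizer_singleton_iff, hL']
    exact hc.symm
  refine ⟨L', ⟨x, hxc⟩, rfl, ?_⟩
  have hxo : orderOf (⟨x, hxc⟩ : centralizer ({L'.t} : Set K)) = p := by rw [Subgroup.orderOf_mk, hx]
  have h1 : orderOf (L'.K.π ⟨x, hxc⟩) ∣ p := by
    rw [← hxo]
    exact orderOf_map_dvd _ _
  rcases (Nat.dvd_prime hp).1 h1 with h2 | h2
  · exfalso
    have h3 := (L'.K.ker _).1 (orderOf_eq_one_iff.1 h2)
    have h4 : (⟨x, hxc⟩ : centralizer ({L'.t} : Set K)) ^ 2 = 1 := by
      rcases h3 with h3 | h3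
      · rw [h3, one_pow]
      · rw [h3, L'.K.z_pow_two]
    have h5 := orderOf_dvd_of_pow_eq_one h4
    rw [hxo] at h5
    exact hp2 ((Nat.prime_dvd_prime_iff_eq hp Nat.prime_two).1 h5)
  · exact h2

/-- three-cycle -/
def c3 : Perm (Fin 8) := swap 0 1 * swap 1 2
/-- two three-cycles -/
def c33 : Perm (Fin 8) := swap 0 1 * swap 1 2 * (swap 3 4 * swap 4 5)
/-- five-cycle -/
def c5 : Perm (Fin 8) := swap 0 1 * swap 1 2 * swap 2 3 * swap 3 4

theorem three_invo (L : MT 8 K) {x u : K} (hx : orderOf x = 3) (hu : orderOf u = 2) (hc : u * x = x * u) :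
    ∃ (k : ℕ) (_ : k ≤ 3) (f : Fin k → K), 7 ∣ Nat.card (closure (Set.range fun i => f i * x * (f i)⁻¹)) := by
  obtain ⟨L', x', rfl, ho⟩ := exists_comm L Nat.prime_three (by norm_num) hx hu hc
  rcases Cfsg.Agent.CpAut.SporThree.AltEight.cycleType_cases ho with h | h
  · obtain ⟨f, hf⟩ := exists_seven' L' x' (σ := c3) (Perm.isConj_iff_cycleType_eq.2 (by rw [h]; decide +kernel))
      ![1, swap 0 3 * swap 1 4, swap 0 5 * swap 1 6] (by decide) (by decide +kernel) (by decide +kernel)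
    exact ⟨3, le_rfl, f, hf⟩
  · obtain ⟨f, hf⟩ := exists_seven' L' x' (σ := c33) (Perm.isConj_iff_cycleType_eq.2 (by rw [h]; decide +kernel))
      ![1, swap 0 3 * swap 1 6] (by decide) (by decide +kernel) (by decide +kernel)
    exact ⟨2, by norm_num, f, hf⟩

theorem cycleType_five {y : Perm (Fin 8)} (hy : orderOf y = 5) : y.cycleType = {5} := by
  obtain ⟨n, hn⟩ := Perm.cycleType_prime_order (σ := y) (by rw [hy]; exact Nat.prime_five)
  rw [hy] at hn
  have h2 : y.cycleType.sum ≤ Fintype.card (Fin 8) := by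
    rw [Perm.sum_cycleType]
    exact Finset.card_le_univ _
  rw [hn, Multiset.sum_replicate, Fintype.card_fin, smul_eq_mul] at h2
  have hn2 : n = 0 := by omega
  rw [hn, hn2]
  rfl

theorem five_invo (L : MT 8 K) {x u : K} (hx : orderOf x = 5) (hu : orderOf u = 2) (hc : u * x = x * u) :
    ∃ f : Fin 2 → K, 7 ∣ Nat.card (closure (Set.range fun i => f i * x * (f i)⁻¹)) := by
  obtain ⟨L', x', rfl, ho⟩ := exists_comm L Nat.prime_five (by norm_num) hx hu hc
  exact exists_seven' L' x' (σ := c5) (Perm.isConj_iff_cycleType_eq.2 (by rw [cycleType_five ho]; decide +kernel))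
    ![1, swap 0 5 * swap 1 6] (by decide) (by decide +kernel) (by decide +kernel)

theorem two_invo (L : MT 8 K) {x : K} (hx : orderOf x = 2) :
    ∃ f : Fin 3 → K, 7 ∣ Nat.card (closure (Set.range fun i => f i * x * (f i)⁻¹)) := by
  obtain ⟨v, hv⟩ := L.K.exists_lift (σ := v0) (by rw [Perm.mem_alternatingGroup]; decide)
  have hv2 : v * v = 1 := L.K.sq_eq_one_iff.2 (by rw [hv]; decide)
  have hv1 : (v : K) ≠ 1 := by
    intro h1
    have h2 : v = 1 := Subtype.ext h1
    rw [h2, map_one] at hv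
    exact absurd hv (by decide)
  have hvv : (v : K) * v = 1 := congrArg Subtype.val hv2
  obtain ⟨hxx, hx1⟩ := Cfsg.Agent.TypeM.Two.MT.sq_of_orderOf hx
  obtain ⟨c, hc'⟩ := L.conj_of_involutions hxx hx1 hvv hv1
  obtain ⟨f, hf⟩ := exists_seven L v ![1, swap 0 1 * swap 0 4, swap 1 2 * swap 0 6] (by decide)
    (by rw [hv]; decide +kernel) (by rw [hv]; decide +kernel)
  refine ⟨fun i => f i * c, ?_⟩
  have h3 : (fun i => f i * c * x * (f i * c)⁻¹) = fun i => f i * (v : K) * (f i)⁻¹ := by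
    funext i
    rw [← hc']
    group
  rw [h3]
  exact hf

end Comm

/-! ### the row for the model -/

theorem isoG1 : Spor.IsoMcL G1 := isoMcL_G1

theorem cg7 (B : Base) {x : G1} (hx : x ≠ 1) {k : ℕ} (f : Fin k → G1)
    (h : 7 ∣ Nat.card (closure (Set.range fun i => f i * x * (f i)⁻¹))) : CG (k + 8) x :=
  CG.of_eng2 (McL.ctx B isoG1) os7 (fun S ha hS => orders2 (McL.ctx B isoG1) ⟨7, 14, [(2, 1), (3, 1), (7, 1)]⟩
    (by simp [McL.loc]) os7 20 ho7 S ha hS) hm7 hx f h

theorem cg35 (B : Base) {x : G1} (hx : x ≠ 1) {k : ℕ} (f : Fin k → G1)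
    (h : 35 ∣ Nat.card (closure (Set.range fun i => f i * x * (f i)⁻¹))) : CG (k + 4) x :=
  CG.of_eng2 (McL.ctx B isoG1) os35 (fun S ha hS => orders2 (McL.ctx B isoG1) ⟨7, 14, [(2, 1), (3, 1), (7, 1)]⟩
    (by simp [McL.loc]) os35 20 ho35 S ha hS) hm35 hx f h

theorem cg11 (B : Base) {x : G1} (hx : x ≠ 1) {k : ℕ} (f : Fin k → G1)
    (h : 11 ∣ Nat.card (closure (Set.range fun i => f i * x * (f i)⁻¹))) : CG (k + 5) x :=
  CG.of_eng2 (McL.ctx B isoG1) os11 (fun S ha hS => orders2 (McL.ctx B isoG1) ⟨11, 11, [(5, 1), (11, 1)]⟩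
    (by simp [McL.loc]) os11 20 ho11 S ha hS) hm11 hx f h

theorem ne_one_of_order {G : Type*} [Group G] {x : G} {p : ℕ} (hp : p.Prime) (hx : orderOf x = p) : x ≠ 1 := by
  rintro rfl
  rw [orderOf_one] at hx
  exact hp.one_lt.ne hx

open Cfsg.Agent.H686.Odd.McL in
/-- elements of order 5 -/
theorem five_case (B : Base) (L : MT 8 G1) {y : G1} (hy : orderOf y = 5) : CG 11 y := by
  have : Fact (Nat.Prime 5) := ⟨Nat.prime_five⟩
  have hcy : s * c = c * s := mem_centralizer_singleton_iff.1 s_mem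
  have hs3 : orderOf (s ^ 3) = 2 := by rw [orderOf_pow_of_dvd (by norm_num) (by rw [order_s]; norm_num), order_s]
  have hcs : ∀ l : ℤ, s ^ 3 * c ^ l = c ^ l * s ^ 3 := fun l => (((show Commute s c from hcy).pow_left 3).zpow_right l).eq
  have h1 : IsPGroup 5 (zpowers y) := IsPGroup.of_card (n := 1) (by rw [Nat.card_zpowers, hy, pow_one])
  obtain ⟨Q, hQ⟩ := h1.exists_le_sylow
  have h125 : (898128000 : ℕ).factorization 5 = 3 := by
    rw [show (898128000 : ℕ) = 5 ^ 3 * 7185024 by norm_num, Nat.factorization_mul (by norm_num) (by norm_num),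
      Nat.Prime.factorization_pow Nat.prime_five]
    simp [Nat.factorization_eq_zero_of_not_dvd]
  let P : Sylow 5 G1 := Sylow.ofCard (closure {a, b}) (by rw [card_ab, card_G1, h125]; norm_num)
  obtain ⟨g, hg⟩ := MulAction.exists_smul_eq G1 Q P
  have h2 : g * y * g⁻¹ ∈ (closure {a, b} : Subgroup G1) := by
    have h3 : ((g • Q : Sylow 5 G1) : Subgroup G1) = closure {a, b} := by rw [hg]; rfl
    rw [← h3, Sylow.coe_subgroup_smul]
    exact Subgroup.smul_mem_pointwise_smul y (MulAut.conj g) (Q : Subgroup G1) (hQ (mem_zpowers y))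
  apply CG.of_conj g
  obtain ⟨y', hy'⟩ : ∃ y', y' = g * y * g⁻¹ := ⟨_, rfl⟩
  have hyo : orderOf y' = 5 := by
    rw [hy', ← hy]; exact (MulAut.conj g).orderOf_eq y
  rw [← hy'] at h2 ⊢
  have hy1 : y' ≠ 1 := ne_one_of_order Nat.prime_five hyo
  obtain ⟨i, j, k, hk⟩ := exists_abc h2
  by_cases hij : (5 : ℤ) ∣ i ∧ (5 : ℤ) ∣ j
  · obtain ⟨⟨u, rfl⟩, ⟨v, rfl⟩⟩ := hij
    have h3 : y' = c ^ k := by
      rw [hk, zpow_mul, zpow_mul, show a ^ (5 : ℤ) = 1 from by exact_mod_cast a_pow,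
        show b ^ (5 : ℤ) = 1 from by exact_mod_cast b_pow, one_zpow, one_zpow, one_mul, one_mul]
    obtain ⟨f, hf⟩ := five_invo L hyo hs3 (by rw [h3]; exact hcs k)
    exact (cg7 B hy1 f hf).mono (by norm_num)
  · have hr : ∃ (r : G1) (l : ℤ), ¬ (5 : ℤ) ∣ l ∧ r * y' * r⁻¹ * y'⁻¹ = c ^ l := by
      by_cases hj : (5 : ℤ) ∣ j
      · have hi : ¬ (5 : ℤ) ∣ i := fun hi => hij ⟨hi, hj⟩
        refine ⟨b, -i, by rwa [Int.dvd_neg], ?_⟩
        have e1 : b * y' = y' * b * c ^ (-i) := by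
          have h3 := abc_mul 0 1 0 i j k
          have h4 := abc_mul i j k 0 1 (-i)
          simp only [zpow_zero, one_mul, mul_one, zpow_one, zero_add, add_zero, zero_mul, sub_zero] at h3 h4
          rw [hk, h3, mul_assoc (a ^ i * (b ^ j * c ^ k)), h4, add_comm 1 j]
          congr 3
        rw [e1]
        have e2 : c ^ (-i) * b⁻¹ = b⁻¹ * c ^ (-i) := (((show Commute c b from cb).zpow_left (-i)).inv_right).eq
        have e3 : c ^ (-i) * y'⁻¹ = y'⁻¹ * c ^ (-i) := by
          have h5 : Commute c y' := by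
            rw [hk]
            exact ((show Commute c a from ca).zpow_right i).mul_right (((show Commute c b from cb).zpow_right j).mul_right
              ((Commute.refl c).zpow_right k))
          exact ((h5.zpow_left (-i)).inv_right).eq
        calc y' * b * c ^ (-i) * b⁻¹ * y'⁻¹ = y' * b * (c ^ (-i) * b⁻¹) * y'⁻¹ := by group
          _ = y' * (c ^ (-i) * y'⁻¹) := by rw [e2]; group
          _ = c ^ (-i) := by rw [e3]; group
      · refine ⟨a, j, hj, ?_⟩
        have e1 : a * y' = y' * a * c ^ j := by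
          have h3 := abc_mul 1 0 0 i j k
          have h4 := abc_mul i j k 1 0 j
          simp only [zpow_zero, one_mul, mul_one, zpow_one, zero_add, add_zero, mul_zero, sub_zero] at h3 h4
          rw [hk, h3, mul_assoc (a ^ i * (b ^ j * c ^ k)), h4, add_comm 1 i]
          congr 3
          ring
        rw [e1]
        have e2 : c ^ j * a⁻¹ = a⁻¹ * c ^ j := (((show Commute c a from ca).zpow_left j).inv_right).eq
        have e3 : c ^ j * y'⁻¹ = y'⁻¹ * c ^ j := by
          have h5 : Commute c y' := by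
            rw [hk]
            exact ((show Commute c a from ca).zpow_right i).mul_right (((show Commute c b from cb).zpow_right j).mul_right
              ((Commute.refl c).zpow_right k))
          exact ((h5.zpow_left j).inv_right).eq
        calc y' * a * c ^ j * a⁻¹ * y'⁻¹ = y' * a * (c ^ j * a⁻¹) * y'⁻¹ := by group
          _ = y' * (c ^ j * y'⁻¹) := by rw [e2]; group
          _ = c ^ j := by rw [e3]; group
    obtain ⟨r, l, hl, hr⟩ := hr
    have hz1 : c ^ l ≠ 1 := by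
      intro h3
      apply hl
      have h4 := orderOf_dvd_iff_zpow_eq_one.2 h3
      rw [order_c] at h4
      exact_mod_cast h4
    have hzo : orderOf (c ^ l) = 5 := orderOf_eq_prime (by
      rw [← zpow_natCast, ← zpow_mul, mul_comm, zpow_mul, zpow_natCast, c_pow, one_zpow]) hz1
    obtain ⟨f, hf⟩ := five_invo L hzo hs3 (hcs l)
    refine (cg35 B hy1 ![f 0, f 0 * r, f 1, f 1 * r] ?_).mono (by norm_num)
    set G' := closure (Set.range fun i => (![f 0, f 0 * r, f 1, f 1 * r] : Fin 4 → G1) i * y' *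
      ((![f 0, f 0 * r, f 1, f 1 * r] : Fin 4 → G1) i)⁻¹) with hG'
    have m0 : f 0 * y' * (f 0)⁻¹ ∈ G' := subset_closure ⟨0, rfl⟩
    have m1 : f 0 * r * y' * (f 0 * r)⁻¹ ∈ G' := subset_closure ⟨1, rfl⟩
    have m2 : f 1 * y' * (f 1)⁻¹ ∈ G' := subset_closure ⟨2, rfl⟩
    have m3 : f 1 * r * y' * (f 1 * r)⁻¹ ∈ G' := subset_closure ⟨3, rfl⟩
    have h7 : 7 ∣ Nat.card G' := by
      refine hf.trans (Subgroup.card_dvd_of_le ?_)
      rw [closure_le]
      rintro _ ⟨q, rfl⟩
      show f q * c ^ l * (f q)⁻¹ ∈ G'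
      rw [← hr]
      fin_cases q
      · have h6 := mul_mem m1 (inv_mem m0)
        convert h6 using 1
        show f 0 * (r * y' * r⁻¹ * y'⁻¹) * (f 0)⁻¹ = _
        group
      · have h6 := mul_mem m3 (inv_mem m2)
        convert h6 using 1
        show f 1 * (r * y' * r⁻¹ * y'⁻¹) * (f 1)⁻¹ = _
        group
    have h5 : 5 ∣ Nat.card G' := by
      have h6 := dvd_card_of_mem m0
      have h8 : orderOf (f 0 * y' * (f 0)⁻¹) = 5 := by
        rw [← hyo]; exact (MulAut.conj (f 0)).orderOf_eq y'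
      rwa [h8] at h6
    exact (by norm_num : Nat.Coprime 5 7).mul_dvd_of_dvd_of_dvd h5 h7

theorem genI_mcl (B : Base) {p : ℕ} (hp : p.Prime) : GenI G1 11 p := by
  intro x hx
  have hx1 := ne_one_of_order hp hx
  obtain ⟨hfin, -, hcard, ⟨L⟩⟩ := TypeM.FactsMcL.facts isoG1
  have hd : p ∣ 898128000 := by
    rw [← hcard, ← hx]
    exact orderOf_dvd_natCard x
  have h5 : p = 2 ∨ p = 3 ∨ p = 5 ∨ p = 7 ∨ p = 11 := by
    rw [show 898128000 = 2 ^ 7 * (3 ^ 6 * (5 ^ 3 * (7 * 11))) by norm_num] at hd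
    rcases (Nat.Prime.dvd_mul hp).1 hd with h | h
    · exact Or.inl ((Nat.prime_dvd_prime_iff_eq hp Nat.prime_two).1 (hp.dvd_of_dvd_pow h))
    rcases (Nat.Prime.dvd_mul hp).1 h with h | h
    · exact Or.inr (Or.inl ((Nat.prime_dvd_prime_iff_eq hp Nat.prime_three).1 (hp.dvd_of_dvd_pow h)))
    rcases (Nat.Prime.dvd_mul hp).1 h with h | h
    · exact Or.inr (Or.inr (Or.inl ((Nat.prime_dvd_prime_iff_eq hp Nat.prime_five).1 (hp.dvd_of_dvd_pow h))))
    rcases (Nat.Prime.dvd_mul hp).1 h with h | h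
    · exact Or.inr (Or.inr (Or.inr (Or.inl ((Nat.prime_dvd_prime_iff_eq hp (by norm_num)).1 h))))
    · exact Or.inr (Or.inr (Or.inr (Or.inr ((Nat.prime_dvd_prime_iff_eq hp (by norm_num)).1 h))))
  rcases h5 with rfl | rfl | rfl | rfl | rfl
  · obtain ⟨f, hf⟩ := two_invo L hx
    exact cg7 B hx1 f hf
  · obtain ⟨u, hu, hc⟩ := Cfsg.Agent.McLType.ThreeElts.exists_commuting_involution_of_iso isoG1 x hx
    obtain ⟨k, hk, f, hf⟩ := three_invo L hx hu hc
    exact (cg7 B hx1 f hf).mono (by omega)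
  · exact five_case B L hx
  · refine (cg7 B hx1 (fun _ : Fin 1 => 1) ?_).mono (by norm_num)
    rw [← hx]
    exact dvd_card_of_mem (subset_closure ⟨0, by simp⟩)
  · refine (cg11 B hx1 (fun _ : Fin 1 => 1) ?_).mono (by norm_num)
    rw [← hx]
    exact dvd_card_of_mem (subset_closure ⟨0, by simp⟩)

/-! ### outer automorphisms -/

/-- an element of `A_8` -/
def al : Perm (Fin 8) := swap 1 2 * swap 3 4 * swap 5 6 * swap 6 7

theorem al_sign : Perm.sign al = 1 := by decide
theorem al_pow : (al * (s0 * al * s0⁻¹)⁻¹) ^ 7 = 1 := by decide +kernel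
theorem al_ne : al * (s0 * al * s0⁻¹)⁻¹ ≠ 1 := by decide +kernel

theorem genO_mcl (B : Base) : GenO G1 11 := by
  intro x hx2 hout
  obtain ⟨hfin, hsimp, hcard, ⟨L⟩⟩ := TypeM.FactsMcL.facts isoG1
  have hφ : x * x = 1 := by rw [← pow_two, ← hx2, pow_orderOf_eq_one]
  have hx1 : x ≠ 1 := ne_one_of_order Nat.prime_two hx2
  have he : Even (Nat.card ↥(centralizer ({(1 : G1)} : Set G1))) := by
    have h1 : centralizer ({(1 : G1)} : Set G1) = ⊤ := by
      rw [eq_top_iff]
      intro a _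
      rw [mem_centralizer_singleton_iff, mul_one, one_mul]
    rw [h1, card_top, hcard]
    decide
  obtain ⟨u, hu2, hxu, -⟩ := H291.Parity.exists_comm_invo x hφ (w := (1 : G1)) (map_one x) he
  have hI : ∀ L' : MT 8 G1, EvenInner L' := fun L' =>
    Cfsg.Agent.TypeM.OuterInst.evenInner L' (Or.inl rfl) (Cfsg.Agent.TypeM.FactsAut.gen L' (Or.inl ⟨rfl, hcard⟩))
  have huu : u * u = 1 := by rw [← pow_two, ← hu2, pow_orderOf_eq_one]
  have hu1 : u ≠ 1 := by
    rintro rfl
    rw [orderOf_one] at hu2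
    omega
  obtain ⟨L1, hL1⟩ := L.exists_rebase huu hu1
  obtain ⟨L2, hL2, hcp⟩ := exists_type L1 (fun L' _ => hI L') hφ hout (by rw [hL1]; exact hxu)
  have hxt : x L2.t = L2.t := by rw [hL2, hL1]; exact hxu
  obtain ⟨a, ha⟩ := L2.K.exists_lift (σ := al) (Perm.mem_alternatingGroup.2 al_sign)
  have hxa : x (a : G1) ∈ centralizer ({L2.t} : Set G1) := by
    rw [mem_centralizer_singleton_iff]
    have h1 := congrArg x (mem_centralizer_singleton_iff.1 a.2)
    rw [map_mul, map_mul, hxt] at h1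
    exact h1
  have h1 := hcp a ⟨x a, hxa⟩ rfl
  have h2 : L2.K.π (a * ⟨x a, hxa⟩⁻¹) = al * (s0 * al * s0⁻¹)⁻¹ := by
    rw [map_mul, map_inv, h1, ha]
  have : Fact (Nat.Prime 7) := ⟨by norm_num⟩
  have h3 : orderOf (al * (s0 * al * s0⁻¹)⁻¹) = 7 := orderOf_eq_prime al_pow al_ne
  have h4 : 7 ∣ orderOf (a * (⟨x a, hxa⟩ : ↥(centralizer ({L2.t} : Set G1)))⁻¹) := by
    rw [← h3, ← h2]
    exact orderOf_map_dvd L2.K.π _
  rw [← Subgroup.orderOf_coe] at h4
  have h5 : 7 ∣ orderOf ((a : G1) * (x (a : G1))⁻¹) := h4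
  refine (CA.of_eng2 (McL.ctx B isoG1) (a := 7) os7 (fun S ha hS => orders2 (McL.ctx B isoG1) ⟨7, 14, [(2, 1), (3, 1), (7, 1)]⟩
    (by simp [McL.loc]) os7 20 ho7 S ha hS) hm7 hx1 two_pos (![(a : G1), 1] : Fin 2 → G1) ?_).mono (by norm_num)
    (by norm_num)
  exact h5.trans (dvd_card_of_mem (comm_mem_comap x (a : G1)))

/-- **S4327, row `McL`** -/
theorem gen_mcl {K : Type u} [Group K] (B : Base) (h : Spor.IsoMcL K)
    (h2 : ∀ x : MulAut K, (orderOf x).Prime → x ∉ (MulAut.conj : K →* MulAut K).range → orderOf x = 2) : Gen11 K := by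
  obtain ⟨e⟩ := h
  obtain ⟨e'⟩ := isoMcL_G1
  have := (TypeM.FactsMcL.facts isoG1).1
  have := (TypeM.FactsMcL.facts isoG1).2.1
  have hcard := (TypeM.FactsMcL.facts isoG1).2.2.1
  have hc : center G1 = ⊥ := H799.PiBS.center_bot (by rw [hcard]; norm_num)
  have hf : K ≃* G1 := e.trans e'.symm
  exact Gen11.congr hf.symm (gen11_of hc (fun p hp => genI_mcl B hp) (H966.Gen.out_two_transfer hf h2) (genO_mcl B))

end Cfsg.Agent.H966.Gen.McL
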